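import Cfsg.Agent.Lib.PG.Gen

set_option autoImplicit false
set_option maxRecDepth 100000
set_option Elab.async false
set_option exponentiation.threshold 100000

namespace Cfsg.Agent.Golay.H1602
open Cfsg.Agent.PG

noncomputable def n0 : Net :=
 (.cons 16 0x9800
 (.cons 8 0x900041
 (.cons 4 0xc0c05
 (.cons 2 0x32010
 (.cons 1 0x1401044
 (.cons 2 0x2001
 (.cons 4 0xc0808
 (.cons 8 0x800041
 (.cons 16 0x9800
 .nil)))))))))

noncomputable def n1 : Net :=
 (.cons 16 0x8200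
 (.cons 8 0x20003a
 (.cons 4 0x3040106
 (.cons 2 0x21220210
 (.cons 1 0x1140154
 (.cons 2 0x220202
 (.cons 4 0x1010000
 (.cons 8 0xb0003a
 (.cons 16 0x9080
 .nil)))))))))

noncomputable def n2 : Net :=
 (.cons 16 0x310c
 (.cons 8 0x2a0048
 (.cons 4 0x60c0004
 (.cons 2 0x2102210
 (.cons 1 0x11541400
 (.cons 2 0x12012200
 (.cons 4 0x60c0c04
 (.cons 8 0x260050
 (.cons 16 0x2910
 .nil)))))))))

noncomputable def n3 : Net :=
 (.cons 16 0x9000
 (.cons 8 0xd00018
 (.cons 4 0xa0102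
 (.cons 2 0x300
 (.cons 1 0x44101504
 (.cons 4 0x20100
 (.cons 8 0xd00018
 (.cons 16 0x9000
 .nil))))))))

noncomputable def A : List Net := [n0, n1, n2, n3]

theorem hA : okA (2 ^ 5) A = true := by decide +kernel

theorem hlen : A.length = 4 := rfl

def tr3 : List ℕ := [1, 0x106]

def ce3 : List (List (ℕ × ℕ)) := [[(1, 1)],
  [(0, 1)]]

noncomputable def cl3_l : List Claim := plainClaims 3 tr3 ce3

def tr2 : List ℕ := [1, 0x104, 0x105]

def ce2 : List (List (ℕ × ℕ)) := [[(1, 1), (0, 0x106)],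
  [(2, 1), (2, 0x106)],
  [(0, 1), (1, 0x106)]]

noncomputable def cl2_l : List Claim := plainClaims 2 tr2 ce2

def tr1 : List ℕ := [1, 0x102, 0x103, 0x10204]

def ce1 : List (List (ℕ × ℕ)) := [[(1, 1), (0, 0x105), (0, 0x106)],
  [(2, 1), (3, 1), (3, 0x106)],
  [(0, 1), (1, 0x104), (2, 0x10605)],
  [(3, 0x105), (2, 0x105), (1, 0x106)]]

noncomputable def cl1_l : List Claim := plainClaims 1 tr1 ce1

def tr0 : List ℕ := [1, 0x100, 0x10002, 0x10003, 0x1000204]

def ce0 : List (List (ℕ × ℕ)) := [[(1, 1), (0, 0x103), (0, 0x105), (0, 0x106)],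
  [(0, 1), (2, 1), (1, 0x104), (1, 0x10604)],
  [(2, 0x1040204), (3, 1), (4, 1), (4, 0x10604)],
  [(4, 0x10402), (1, 1), (2, 0x105), (3, 0x10605)],
  [(3, 0x1050204), (4, 0x104), (3, 0x104), (2, 0x10604)]]

noncomputable def cl0_l : List Claim := plainClaims 0 tr0 ce0

theorem cl3_0 : chk A 5 (cl3_l) = true := by decide +kernel

theorem ok3 : plainOK A 3 4 27 tr3 ce3 = true := by decide +kernel

theorem orb3 : orbCardB A 2 3 27 2 2 = true := by decide +kernel

theorem cl2_0 : chk A 5 (cl2_l) = true := by decide +kernel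

theorem ok2 : plainOK A 2 3 28 tr2 ce2 = true := by decide +kernel

theorem orb2 : orbCardB A 2 2 28 2 3 = true := by decide +kernel

theorem cl1_0 : chk A 5 (cl1_l) = true := by decide +kernel

theorem ok1 : plainOK A 1 2 25 tr1 ce1 = true := by decide +kernel

theorem orb1 : orbCardB A 2 1 25 2 4 = true := by decide +kernel

theorem cl0_0 : chk A 5 (cl0_l) = true := by decide +kernel

theorem ok0 : plainOK A 0 1 24 tr0 ce0 = true := by decide +kernel

theorem orb0 : orbCardB A 2 0 24 2 5 = true := by decide +kernel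

theorem card4 : Nat.card (K A 4) = 1 := card_K_last A (le_of_eq hlen)

theorem cl3 : ∀ c ∈ cl3_l, Holds A c :=
  (chk_spec hA cl3_0)

theorem stab3 : StabIs A 3 27 4 := stabIs_plain hA ok3 cl3

theorem card3 : Nat.card (K A 3) = 2 := card_K_step hA stab3 orb3 card4

theorem cl2 : ∀ c ∈ cl2_l, Holds A c :=
  (chk_spec hA cl2_0)

theorem stab2 : StabIs A 2 28 3 := stabIs_plain hA ok2 cl2

theorem card2 : Nat.card (K A 2) = 6 := card_K_step hA stab2 orb2 card3

theorem cl1 : ∀ c ∈ cl1_l, Holds A c :=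
  (chk_spec hA cl1_0)

theorem stab1 : StabIs A 1 25 2 := stabIs_plain hA ok1 cl1

theorem card1 : Nat.card (K A 1) = 24 := card_K_step hA stab1 orb1 card2

theorem cl0 : ∀ c ∈ cl0_l, Holds A c :=
  (chk_spec hA cl0_0)

theorem stab0 : StabIs A 0 24 1 := stabIs_plain hA ok0 cl0

theorem card0 : Nat.card (K A 0) = 120 := card_K_step hA stab0 orb0 card1

theorem fixTriv0 {B : Set ℕ} (h0 : 24 ∈ B) (h1 : 25 ∈ B) (h2 : 28 ∈ B) (h3 : 27 ∈ B) : FixTriv (K A 0) B :=
  fixTriv_step stab0 h0 <| fixTriv_step stab1 h1 <| fixTriv_step stab2 h2 <| fixTriv_step stab3 h3 <| fixTriv_last A (le_of_eq hlen) B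

theorem fixTriv1 {B : Set ℕ} (h1 : 25 ∈ B) (h2 : 28 ∈ B) (h3 : 27 ∈ B) : FixTriv (K A 1) B :=
  fixTriv_step stab1 h1 <| fixTriv_step stab2 h2 <| fixTriv_step stab3 h3 <| fixTriv_last A (le_of_eq hlen) B

theorem fixTriv2 {B : Set ℕ} (h2 : 28 ∈ B) (h3 : 27 ∈ B) : FixTriv (K A 2) B :=
  fixTriv_step stab2 h2 <| fixTriv_step stab3 h3 <| fixTriv_last A (le_of_eq hlen) B

theorem fixTriv3 {B : Set ℕ} (h3 : 27 ∈ B) : FixTriv (K A 3) B :=
  fixTriv_step stab3 h3 <| fixTriv_last A (le_of_eq hlen) B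


end Cfsg.Agent.Golay.H1602
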